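import Groth.Agent.EGA4Alg4.CMMod
import Mathlib.RingTheory.RegularLocalRing.Defs
import Mathlib.RingTheory.Ideal.KrullsHeightTheorem

/-! Exchange of generators, prime avoidance, and associated primes modulo regular sequences. -/

set_option autoImplicit false
set_option maxHeartbeats 400000
universe u

open IsLocalRing RingTheory.Sequence

namespace Groth.Agent.H98DSeq

theorem exchange {R : Type u} [CommRing R] [IsLocalRing R] {P J : Ideal R} {a : ℕ} (f : Fin (a + 1) → R)
    (hP : P = J ⊔ Ideal.span (Set.range f)) {t : R} (ht : t ∈ P) (htn : t ∉ J ⊔ maximalIdeal R * P) :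
    ∃ f' : Fin a → R, P = (J ⊔ Ideal.span {t}) ⊔ Ideal.span (Set.range f') := by
  obtain ⟨j, hj, z, hz, rfl⟩ := Submodule.mem_sup.mp (hP.le ht)
  obtain ⟨c, hc⟩ := (Ideal.mem_span_range_iff_exists_fun).mp hz
  obtain ⟨r, hr⟩ : ∃ r, IsUnit (c r) := by
    by_contra hcon
    push Not at hcon
    refine htn (Submodule.add_mem_sup hj ?_)
    rw [← hc]
    refine sum_mem fun i _ => Ideal.mul_mem_mul ((mem_maximalIdeal _).mpr (hcon i)) ?_
    rw [hP]
    exact Ideal.mem_sup_right (Ideal.subset_span (Set.mem_range_self i))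
  refine ⟨f ∘ r.succAbove, le_antisymm ?_ ?_⟩
  · rw [hP]
    refine sup_le (le_sup_left.trans le_sup_left) (Ideal.span_le.mpr ?_)
    rintro _ ⟨i, rfl⟩
    rcases eq_or_ne i r with rfl | hi
    · obtain ⟨v, hv⟩ := hr.exists_left_inv
      rw [Fin.sum_univ_succAbove _ i] at hc
      have e : f i = v * ((j + z) - j - ∑ x, c (i.succAbove x) * f (i.succAbove x)) := by
        rw [← hc]
        linear_combination (-(f i)) * hv
      change f i ∈ _
      rw [e]
      refine Ideal.mul_mem_left _ _ (sub_mem (sub_mem ?_ ?_) (sum_mem fun x _ => ?_))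
      · exact Ideal.mem_sup_left (Ideal.mem_sup_right (Ideal.mem_span_singleton_self _))
      · exact Ideal.mem_sup_left (Ideal.mem_sup_left hj)
      · exact Ideal.mul_mem_left _ _ (Ideal.mem_sup_right (Ideal.subset_span ⟨x, rfl⟩))
    · obtain ⟨x, rfl⟩ := Fin.exists_succAbove_eq hi
      exact Ideal.mem_sup_right (Ideal.subset_span ⟨x, rfl⟩)
  · refine sup_le (sup_le (le_sup_left.trans hP.ge) ((Ideal.span_singleton_le_iff_mem _).mpr ht)) ?_
    rw [hP]
    exact (Ideal.span_mono (Set.range_comp_subset_range _ _)).trans le_sup_right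

variable {T : Type u} [CommRing T] [IsNoetherianRing T] [IsLocalRing T]

theorem height_add_dim_quotient_le (q : Ideal T) [q.IsPrime] :
    (q.height : WithBot ℕ∞) + ringKrullDim (T ⧸ q) ≤ ringKrullDim T := by
  rw [ringKrullDim_quotient, show q.height = (⟨q, inferInstance⟩ : PrimeSpectrum T).asIdeal.height from rfl,
    PrimeSpectrum.height_eq_orderHeight]
  have hc : Order.krullDim (PrimeSpectrum.zeroLocus (q : Set T)) =
      ((Order.coheight (⟨q, inferInstance⟩ : PrimeSpectrum T) : ℕ∞) : WithBot ℕ∞) := by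
    rw [Order.coheight_eq_krullDim_Ici]
    rfl
  rw [hc, ringKrullDim, Order.krullDim_eq_iSup_height_add_coheight_of_nonempty,
    ← WithBot.coe_add, WithBot.coe_le_coe]
  exact le_iSup (fun a : PrimeSpectrum T => Order.height a + Order.coheight a) ⟨q, inferInstance⟩

theorem height_le_of_assoc (hT : LocCoh.IsCohenMacaulayModule T T) {l : List T}
    (hl : IsWeaklyRegular T l) (hm : ∀ x ∈ l, x ∈ maximalIdeal T) {q : Ideal T}
    (hq : q ∈ associatedPrimes T (T ⧸ (Ideal.ofList l • (⊤ : Submodule T T)))) :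
    q.height ≤ (l.length : ℕ∞) := by
  have := hq.isPrime
  have hCM := EGA4Alg4.isCohenMacaulayModule_quotient hT hl hm
  have h1 := EGA4Alg4.ringKrullDim_quotient_assoc hCM hq
  have h2 := height_add_dim_quotient_le q
  rw [h1, ← Module.supportDim_self_eq_ringKrullDim] at h2
  have h3 := EGA4Alg4.supportDim_le_quotient_add_length (M := T) hm
  have hne := EGA4Alg4.nontrivial_quotient_ofList (M := T) hm
  obtain ⟨s, hs⟩ := EGA4Alg4.exists_supportDim_eq (A := T) (M := T ⧸ (Ideal.ofList l • (⊤ : Submodule T T)))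
  rw [hs] at h2 h3
  have h4 := h2.trans h3
  rw [show ((s : ℕ) : WithBot ℕ∞) = (((s : ℕ) : ℕ∞) : WithBot ℕ∞) from rfl,
    show ((l.length : ℕ) : WithBot ℕ∞) = (((l.length : ℕ) : ℕ∞) : WithBot ℕ∞) from rfl,
    ← WithBot.coe_add, ← WithBot.coe_add, WithBot.coe_le_coe, add_comm (s : ℕ∞)] at h4
  exact (ENat.add_le_add_iff_right (ENat.natCast_ne_top s)).mp h4

/-- An element of `p` outside two ideals and the associated primes. -/
theorem exists_avoid (p A B : Ideal T) (hA : ¬ p ≤ A) (hB : ¬ p ≤ B) (S : Set (Ideal T)) (hS : S.Finite)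
    (hSp : ∀ q ∈ S, q.IsPrime) (hSn : ∀ q ∈ S, ¬ p ≤ q) :
    ∃ t ∈ p, t ∉ A ∧ t ∉ B ∧ ∀ q ∈ S, t ∉ q := by
  classical
  by_contra hcon
  push Not at hcon
  have hsub : (p : Set T) ⊆ ⋃ i ∈ (↑(insert A (insert B hS.toFinset)) : Set (Ideal T)), (id i : Set T) := by
    intro t ht
    simp only [Finset.coe_insert, Set.mem_iUnion, id_eq, SetLike.mem_coe, Set.mem_insert_iff,
      Set.Finite.coe_toFinset, exists_prop]
    by_cases hA' : t ∈ A
    · exact ⟨A, Or.inl rfl, hA'⟩
    by_cases hB' : t ∈ B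
    · exact ⟨B, Or.inr (Or.inl rfl), hB'⟩
    obtain ⟨q, hq, hqt⟩ := hcon t ht hA' hB'
    exact ⟨q, Or.inr (Or.inr hq), hqt⟩
  obtain ⟨i, hi, hle⟩ := (Ideal.subset_union_prime A B (fun i hi ha hb => hSp i
    (by simpa [ha, hb] using hi))).mp hsub
  rcases Finset.mem_insert.mp hi with rfl | hi
  · exact hA hle
  rcases Finset.mem_insert.mp hi with rfl | hi
  · exact hB hle
  · exact hSn i (hS.mem_toFinset.mp hi) hle

end Groth.Agent.H98DSeq
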