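import Groth.Agent.H98DSeq.Basic
import Groth.Prelude.Def_W4c5grrsingularflatDSeq

/-! A d-sequence generating a prime. -/

set_option autoImplicit false
set_option maxHeartbeats 400000
universe u

open IsLocalRing RingTheory.Sequence

namespace Groth.Agent.H98DSeq

variable {T : Type u} [CommRing T] [IsNoetherianRing T] [IsLocalRing T] (p : Ideal T) [p.IsPrime]

/-- The partial choice after `i` steps. -/
def State (h e i a : ℕ) : Prop :=
  i + a = h → ∃ l : List T, l.length = i ∧ (∀ x ∈ l, x ∈ p) ∧ IsWeaklyRegular T l ∧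
    (∃ f : Fin (a + e) → T, p = Ideal.ofList l ⊔ Ideal.span (Set.range f)) ∧
    ∃ g : Fin a → Localization.AtPrime p, maximalIdeal (Localization.AtPrime p) =
      (Ideal.ofList l).map (algebraMap T (Localization.AtPrime p)) ⊔ Ideal.span (Set.range g)

theorem spanFinrank_ofList_le (l : List T) : Submodule.spanFinrank (Ideal.ofList l) ≤ l.length := by
  classical
  refine (Submodule.spanFinrank_span_le_ncard_of_finite (l.finite_toSet)).trans ?_
  rw [show {x | x ∈ l} = (↑l.toFinset : Set T) by ext; simp, Set.ncard_coe_finset]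
  exact List.toFinset_card_le l

theorem spanFinrank_range_le {R : Type u} [CommRing R] {n : ℕ} (f : Fin n → R) :
    Submodule.spanFinrank (Ideal.span (Set.range f)) ≤ n := by
  refine (Submodule.spanFinrank_span_le_ncard_of_finite (Set.finite_range f)).trans ?_
  rw [← Set.image_univ]
  exact (Set.ncard_image_le Set.finite_univ).trans (by simp)

theorem exists_gens {R : Type u} [CommRing R] [IsNoetherianRing R] (P : Ideal R) {n : ℕ}
    (hn : Submodule.spanFinrank P = n) : ∃ f : Fin n → R, P = Ideal.span (Set.range f) := by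
  obtain ⟨s, hs1, hs2⟩ := Submodule.FG.exists_span_finset_card_eq_spanFinrank (IsNoetherian.noetherian P)
  refine ⟨fun i => (s.equivFin.symm (Fin.cast (hn.symm.trans hs1.symm) i) : R), ?_⟩
  refine hs2.symm.trans ?_
  refine congrArg (Submodule.span R) (Set.ext fun x => ⟨fun hx => ?_, ?_⟩)
  · exact ⟨Fin.cast (hs1.trans hn) (s.equivFin ⟨x, hx⟩), by simp⟩
  · rintro ⟨i, rfl⟩
    exact (s.equivFin.symm _).2

theorem exists_state (hT : LocCoh.IsCohenMacaulayModule T T) [IsRegularLocalRing (Localization.AtPrime p)]
    {h e : ℕ} (hh : p.height = (h : ℕ∞)) (hn : Submodule.spanFinrank p = h + e) :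
    ∀ i a, State p h e i a := by
  have hloc : Submodule.spanFinrank (maximalIdeal (Localization.AtPrime p)) = h := by
    have h1 := IsRegularLocalRing.spanFinrank_maximalIdeal (R := Localization.AtPrime p)
    rw [IsLocalization.AtPrime.ringKrullDim_eq_height p, hh] at h1
    exact_mod_cast h1
  have hpm : p ≤ maximalIdeal T := le_maximalIdeal (Ideal.IsPrime.ne_top inferInstance)
  intro i
  induction i with
  | zero =>
    intro a ha
    obtain rfl : a = h := by omega
    obtain ⟨f, hf⟩ := exists_gens p hn
    obtain ⟨g, hg⟩ := exists_gens _ hloc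
    exact ⟨[], rfl, by simp, IsWeaklyRegular.nil T T, ⟨f, by simpa using hf⟩, ⟨g, by simpa using hg⟩⟩
  | succ i ih =>
    intro a ha
    obtain ⟨l, hlen, hlp, hl, ⟨f, hf⟩, ⟨g, hg⟩⟩ := ih (a + 1) (by omega)
    let φ := algebraMap T (Localization.AtPrime p)
    let J := Ideal.ofList l
    let M := maximalIdeal (Localization.AtPrime p)
    have hJp : J ≤ p := le_sup_left.trans hf.ge
    have hA : ¬ p ≤ J ⊔ maximalIdeal T * p := fun hle => by
      have h1 : p ≤ J := Submodule.le_of_le_smul_of_le_jacobson_bot (IsNoetherian.noetherian _)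
        (maximalIdeal_le_jacobson _) hle
      have h2 : Submodule.spanFinrank J ≤ i := (spanFinrank_ofList_le l).trans hlen.le
      rw [le_antisymm hJp h1, hn] at h2
      omega
    have hB : ¬ p ≤ (J.map φ ⊔ M * M).comap φ := fun hle => by
      have h1 : M ≤ J.map φ ⊔ M * M := by
        have h0 := Ideal.map_le_iff_le_comap.mpr hle
        rwa [Localization.AtPrime.map_eq_maximalIdeal] at h0
      have h1' : M ≤ J.map φ := Submodule.le_of_le_smul_of_le_jacobson_bot (IsNoetherian.noetherian _)
        (maximalIdeal_le_jacobson _) h1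
      have h2 : J.map φ ≤ M := by
        rw [show M = p.map φ from (Localization.AtPrime.map_eq_maximalIdeal).symm]
        exact Ideal.map_mono hJp
      have h3 : Submodule.spanFinrank (J.map φ) ≤ i := by
        rw [show J.map φ = Ideal.ofList (l.map φ) from Ideal.map_ofList φ l]
        refine (Submodule.spanFinrank_span_le_ncard_of_finite (List.finite_toSet _)).trans ?_
        classical
        rw [show {x | x ∈ l.map φ} = (↑(l.map φ).toFinset : Set _) by ext; simp, Set.ncard_coe_finset]
        exact (List.toFinset_card_le _).trans (by simp [hlen])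
      rw [le_antisymm h2 h1', hloc] at h3
      omega
    have hlm : ∀ x ∈ l, x ∈ maximalIdeal T := fun x hx => hpm (hlp x hx)
    have hS : ∀ q ∈ associatedPrimes T (T ⧸ (Ideal.ofList l • (⊤ : Submodule T T))), ¬ p ≤ q := by
      intro q hq hle
      have h1 := (Ideal.height_mono hle).trans (height_le_of_assoc hT hl hlm hq)
      rw [hh, hlen, Nat.cast_le] at h1
      omega
    obtain ⟨t, htp, htA, htB, htS⟩ := exists_avoid p _ _ hA hB _
      (associatedPrimes.finite T (T ⧸ (Ideal.ofList l • (⊤ : Submodule T T)))) (fun q hq => hq.isPrime) hS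
    have hreg : IsSMulRegular (T ⧸ (Ideal.ofList l • (⊤ : Submodule T T))) t := by
      by_contra hc
      have : t ∈ ⋃ q ∈ associatedPrimes T (T ⧸ (Ideal.ofList l • (⊤ : Submodule T T))), (q : Set T) := by
        rw [biUnion_associatedPrimes_eq_compl_regular T]; exact hc
      obtain ⟨q, hq, htq⟩ := Set.mem_iUnion₂.mp this
      exact htS q hq htq
    obtain ⟨f', hf'⟩ := exchange (a := a + e) (fun j => f (Fin.cast (by omega) j))
      (J := J) (P := p) (by
        refine hf.trans (congrArg (Ideal.ofList l ⊔ ·) ?_)
        refine congrArg Ideal.span (Set.ext fun x => ⟨?_, ?_⟩)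
        · rintro ⟨j, rfl⟩; exact ⟨Fin.cast (by omega) j, by simp⟩
        · rintro ⟨j, rfl⟩; exact ⟨_, rfl⟩) htp htA
    obtain ⟨g', hg'⟩ := exchange g (J := J.map φ) hg
      (t := φ t) (by
        show φ t ∈ M
        rw [show M = p.map φ from (Localization.AtPrime.map_eq_maximalIdeal).symm]
        exact Ideal.mem_map_of_mem φ htp) htB
    refine ⟨l ++ [t], by simp [hlen], ?_, ?_, ⟨f', ?_⟩, ⟨g', ?_⟩⟩
    · intro x hx
      rcases List.mem_append.mp hx with hx | hx
      · exact hlp x hx
      · rwa [List.mem_singleton.mp hx]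
    · rw [isWeaklyRegular_append_iff]
      exact ⟨hl, (isWeaklyRegular_cons_iff _ _ _).mpr ⟨hreg, IsWeaklyRegular.nil T _⟩⟩
    · rw [Ideal.ofList_append, Ideal.ofList_singleton]
      exact hf'
    · rw [Ideal.ofList_append, Ideal.ofList_singleton, Ideal.map_sup,
        show (Ideal.span {t}).map (algebraMap T (Localization.AtPrime p)) = Ideal.span {φ t} by
          rw [Ideal.map_span, Set.image_singleton]]
      exact hg'

theorem exists_dSeq (hT : LocCoh.IsCohenMacaulayModule T T) [IsRegularLocalRing (Localization.AtPrime p)]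
    (hgen : (Submodule.spanFinrank p : ℕ∞) ≤ p.height + 1) :
    ∃ ts : List T, Ideal.ofList ts = p ∧ W4c5grrsingularflat.IsDSeq ts := by
  have hpne : p ≠ ⊤ := Ideal.IsPrime.ne_top inferInstance
  have hpm : p ≤ maximalIdeal T := le_maximalIdeal hpne
  have hle := Ideal.height_le_spanFinrank p hpne
  obtain ⟨h, hh⟩ : ∃ h : ℕ, p.height = (h : ℕ∞) := by
    obtain ⟨h, hh⟩ := ENat.ne_top_iff_exists.mp (ne_top_of_le_ne_top (ENat.natCast_ne_top _) hle)
    exact ⟨h, hh.symm⟩
  rw [hh] at hle hgen
  have hle' : h ≤ Submodule.spanFinrank p := by exact_mod_cast hle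
  have hgen' : Submodule.spanFinrank p ≤ h + 1 := by exact_mod_cast hgen
  obtain ⟨e, he⟩ := Nat.exists_eq_add_of_le hle'
  obtain ⟨l, hlen, hlp, hl, ⟨f, hf⟩, ⟨g, hg⟩⟩ := exists_state p hT hh he h 0 rfl
  have hlm : ∀ x ∈ l, x ∈ maximalIdeal T := fun x hx => hpm (hlp x hx)
  have hts : Ideal.ofList (l ++ List.ofFn f) = p := by
    rw [Ideal.ofList_append]
    refine Eq.trans (congrArg (Ideal.ofList l ⊔ ·) ?_) hf.symm
    exact congrArg Ideal.span (Set.ext fun x => by
      show x ∈ List.ofFn f ↔ x ∈ Set.range f
      exact List.mem_ofFn' f x)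
  refine ⟨l ++ List.ofFn f, hts, ?_, ?_⟩
  · intro i hi
    have hsub : p ≤ Ideal.span (Set.range fun j : {j : Fin (l ++ List.ofFn f).length // j ≠ i} =>
        (l ++ List.ofFn f)[(j : Fin (l ++ List.ofFn f).length)]) := by
      rw [← hts]
      refine Ideal.span_le.mpr fun x hx => ?_
      obtain ⟨j, rfl⟩ := List.mem_iff_get.mp hx
      by_cases hji : j = i
      · subst hji; exact hi
      · exact Ideal.subset_span ⟨⟨j, hji⟩, rfl⟩
    have hsup : Ideal.span (Set.range fun j : {j : Fin (l ++ List.ofFn f).length // j ≠ i} =>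
        (l ++ List.ofFn f)[(j : Fin (l ++ List.ofFn f).length)]) ≤ p := by
      rw [Ideal.span_le]
      rintro x ⟨j, rfl⟩
      exact hts.le (Ideal.subset_span (List.getElem_mem _))
    have h1 := Submodule.spanFinrank_span_le_ncard_of_finite (R := T)
      (Set.finite_range fun j : {j : Fin (l ++ List.ofFn f).length // j ≠ i} =>
        (l ++ List.ofFn f)[(j : Fin (l ++ List.ofFn f).length)])
    rw [show Submodule.span T _ = p from le_antisymm hsup hsub, he] at h1
    have h2 : (Set.range fun j : {j : Fin (l ++ List.ofFn f).length // j ≠ i} =>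
        (l ++ List.ofFn f)[(j : Fin (l ++ List.ofFn f).length)]).ncard ≤ (l ++ List.ofFn f).length - 1 := by
      rw [← Set.image_univ]
      refine (Set.ncard_image_le Set.finite_univ).trans ?_
      simp [Set.ncard_univ, Nat.card_eq_fintype_card, Fintype.card_subtype_compl]
    have h3 := i.2
    simp only [List.length_append, List.length_ofFn, hlen] at h2 h3
    omega
  · intro i k hk hik
    have hik' : i < (l ++ List.ofFn f).length := lt_of_le_of_lt hik hk
    ext x
    simp only [Submodule.mem_colon_singleton, smul_eq_mul]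
    refine ⟨fun hx => ?_, fun hx => by rw [← mul_assoc]; exact Ideal.mul_mem_right _ _ hx⟩
    rcases lt_or_ge i h with hih | hih
    · have htake : (l ++ List.ofFn f).take i = l.take i := List.take_append_of_le_length (by omega)
      have hget : (l ++ List.ofFn f)[i]'hik' = l[i]'(by omega) := List.getElem_append_left (by omega)
      rw [htake] at hx ⊢
      rw [hget] at hx
      have hr := hl.regular_mod_prev i (by omega)
      have hJ : (Ideal.ofList (l.take i) • (⊤ : Submodule T T)) = Ideal.ofList (l.take i) := by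
        rw [smul_eq_mul, Ideal.mul_top]
      rw [← hJ] at hx ⊢
      rw [← Submodule.Quotient.mk_eq_zero] at hx ⊢
      refine hr ?_
      dsimp only
      rw [smul_zero, ← Submodule.Quotient.mk_smul, smul_eq_mul, ← hx]
      congr 1
      ring
    · have hk2 : k < h + e := by simpa [hlen] using hk
      obtain rfl : k = i := by omega
      obtain rfl : h = k := by omega
      have he1 : e = 1 := by omega
      subst he1
      have htake : (l ++ List.ofFn f).take h = l := List.take_left' hlen
      have hget : (l ++ List.ofFn f)[h]'hk = f 0 := by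
        rw [List.getElem_append_right (by omega)]
        simp [hlen]
      rw [htake, hget] at hx ⊢
      by_contra hxt
      have hne : Submodule.Quotient.mk (p := (Ideal.ofList l • (⊤ : Submodule T T))) (x * f 0) ≠ 0 := by
        rw [Ne, Submodule.Quotient.mk_eq_zero, smul_eq_mul, Ideal.mul_top]
        exact hxt
      obtain ⟨q, hq, hann⟩ := exists_le_isAssociatedPrime_of_isNoetherianRing T _ hne
      have hmem : ∀ r : T, r * (x * f 0) ∈ Ideal.ofList l → r ∈ q := fun r hr => hann (by
        rw [Submodule.mem_colon_singleton, Submodule.mem_bot, ← Submodule.Quotient.mk_smul,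
          Submodule.Quotient.mk_eq_zero, smul_eq_mul, smul_eq_mul, Ideal.mul_top]
        exact hr)
      have hJq : Ideal.ofList l ≤ q := fun r hr => hmem r (Ideal.mul_mem_right _ _ hr)
      have hfq : f 0 ∈ q := hmem _ (by rw [show f 0 * (x * f 0) = x * (f 0 * f 0) by ring]; exact hx)
      have hpq : p ≤ q := by
        rw [hf]
        refine sup_le hJq (Ideal.span_le.mpr ?_)
        rintro _ ⟨j, rfl⟩
        rw [show j = 0 from Fin.ext (by omega)]
        exact hfq
      have := hq.isPrime
      have hqh : q.height ≤ p.height := by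
        rw [hh, ← hlen]; exact height_le_of_assoc hT hl hlm hq
      have : p.FiniteHeight := ⟨Or.inr (hh ▸ ENat.natCast_ne_top _)⟩
      have hpq' : p = q := Ideal.eq_of_le_of_height_le p hpq hqh
      have hf0 : f 0 ∈ p := hf.ge (Ideal.mem_sup_right (Ideal.subset_span ⟨0, rfl⟩))
      have hloc : algebraMap T (Localization.AtPrime p) (f 0) ∈
          (Ideal.ofList l).map (algebraMap T (Localization.AtPrime p)) := by
        have h0 : algebraMap T (Localization.AtPrime p) (f 0) ∈ maximalIdeal (Localization.AtPrime p) := by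
          rw [← Localization.AtPrime.map_eq_maximalIdeal]; exact Ideal.mem_map_of_mem _ hf0
        rw [hg] at h0
        simpa using h0
      obtain ⟨s, hs, hsJ⟩ := (IsLocalization.algebraMap_mem_map_algebraMap_iff p.primeCompl _ _ _).mp hloc
      exact hs (hpq' ▸ hmem s (by
        rw [show s * (x * f 0) = x * (s * f 0) by ring]; exact Ideal.mul_mem_left _ _ hsJ))

end Groth.Agent.H98DSeq
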